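import Cfsg.Agent.Known.SylSquare.General
import Cfsg.Agent.Known.SylFix.Families

/-! Squares in a Sylow 2-subgroup of a group of Lie type in characteristic two. -/

set_option autoImplicit false
set_option linter.style.haveILetI false

namespace Cfsg.Lib.Known.SylSquare

open Cfsg.Lib.Steinberg

theorem Sq.of_map {G H : Type*} [Group G] [Group H] {U : Subgroup G} {f : G →* H} (hf : Function.Injective f)
    (h : Sq (U.map f)) : Sq U := fun x => by
  have h1 := h (f.subgroupMap U x)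
  have hb : Function.Bijective (f.subgroupMap U) :=
    ⟨fun a b e => Subtype.ext (hf (congrArg Subtype.val e)), f.subgroupMap_surjective U⟩
  have h2 : (commutator ↥U).map (f.subgroupMap U) = commutator ↥(U.map f) := by
    rw [_root_.commutator_def, _root_.commutator_def, Subgroup.map_commutator,
      Subgroup.map_top_of_surjective _ hb.2]
  rw [← h2, ← map_pow] at h1
  obtain ⟨y, hy, e⟩ := h1
  exact hb.1 e ▸ hy

theorem SylSq.of_split {H : Type*} [Group H] [Finite H] {G : Type*} [Group G] {P : Cfsg.BNPair H}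
    {U : Subgroup H} (S : Split P U 2) (hsq : Sq U) (f : H →* G) (hf : Function.Surjective f) : SylSq 2 G :=
  haveI : Fact (Nat.Prime 2) := ⟨Nat.prime_two⟩
  SylSq.of_surj S.isPGroup (factorization_eq S) hsq f hf

end Cfsg.Lib.Known.SylSquare

namespace Cfsg.Lib.PolarBN

open Cfsg.Lib.Classical Matrix
open Cfsg.Lib.Known.SylSquare

universe u v w

section
variable {G : Type w} [Group G] [Finite G] {F : Type u} [Field F] {V : Type v} [AddCommGroup V] [Module F V]
variable {m : ℕ} (P : Polar G F V m) [CharP F 2]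

omit [Finite G] [CharP F 2] in
/-- Composition of two Siegel elements at the same singular vector. -/
theorem Polar.siegel_comp {g k : G} {x z w : V} {a b : F} (hx : P.β x x = 0) (hw : P.β w x = 0)
    (hxz : P.β x z = 0) (hg : ∀ y, P.ρ g y = y + P.β y x • z + (a * P.β y x - P.ε * P.β y z) • x)
    (hk : ∀ y, P.ρ k y = y + P.β y x • w + (b * P.β y x - P.ε * P.β y w) • x) (y : V) :
    P.ρ (g * k) y = y + P.β y x • (z + w) +
      ((a + b - P.ε * P.β w z) * P.β y x - P.ε * P.β y (z + w)) • x := by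
  rw [P.ρ_mul, hk, hg]
  simp only [P.add_left, P.smul_left, hx, hw, hxz, P.add_right, mul_zero, add_zero]
  match_scalars <;> ring

theorem Polar.isS_good (hsq : (∀ z, P.β z z = 0) ∨ ∃ c, P.σ c ≠ c) {g : G} {i : Fin m} {z : V} {a : F}
    (h : P.IsS g (P.e i) z a) (hz : ∀ j : Fin m, j.val < i.val → P.β z (P.e j) = 0) : g ∈ goodSub P.uni := by
  obtain ⟨hx, hzx, -, hg⟩ := id h
  have hxx := P.sing_self _ hx
  have hgU : g ∈ P.uni := h.mem_uni (P := P) hz
  have h2 : (2 : F) = 0 := CharP.cast_eq_zero F 2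
  have hzz2 : z + z = 0 := by rw [← two_smul F z, h2, zero_smul]
  have hgg : ∀ y, P.ρ (g * g) y = y + (-(P.ε * P.β z z) * P.β y (P.e i)) • P.e i := fun y => by
    rw [P.siegel_comp hxx hzx (P.symm_zero hzx) hg hg, hzz2, P.zero_right, smul_zero, add_zero]
    congr 2
    linear_combination (a * P.β y (P.e i)) * h2
  by_cases hh : P.β z z = 0
  · exact mem_goodSub_of_sq hgU (P.eq_one_of_fix fun y => by rw [hgg, hh]; simp)
  obtain ⟨c, hc⟩ := hsq.resolve_left fun h' => hh (h' z)
  set d := c + P.σ c with hd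
  have hd0 : d ≠ 0 := fun e => hc (by linear_combination e - c * h2)
  have hσd : P.σ d = d := by rw [hd, map_add, P.σσ, add_comm]
  set l := c / d with hl
  have hlσ : l + P.σ l = 1 := by rw [hl, map_div₀, hσd, ← add_div, ← hd, div_self hd0]
  obtain ⟨b, hb⟩ := P.par_ex (l • z)
  obtain ⟨k, hk⟩ := P.exists_IsS hx (show P.β (l • z) (P.e i) = 0 by rw [P.smul_left, hzx, mul_zero]) hb
  have hkU : k ∈ P.uni := hk.mem_uni (P := P) fun j hj => by rw [P.smul_left, hz j hj, mul_zero]
  obtain ⟨-, hkx, -, hkf⟩ := id hk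
  refine mem_goodSub_of_comm hgU hgU hkU ?_
  suffices e : g * g * (k * g) = g * k by
    rw [← e]; group
  refine P.ext fun y => ?_
  have hkg := P.siegel_comp hxx hzx (P.symm_zero hkx) hkf hg
  rw [P.siegel_comp hxx hkx (P.symm_zero hzx) hg hkf, P.ρ_mul (g * g), hgg, hkg]
  simp only [P.add_left, P.smul_left, hxx, P.smul_right, hkx, hzx, mul_zero, add_zero]
  rw [add_comm (l • z) z]
  match_scalars
  all_goals first
    | ring1
    | linear_combination (-(P.ε * P.β z z * P.β y (P.e i))) * hlσ +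
        (P.ε * P.β z z * P.β y (P.e i) * (l - 1)) * h2

namespace Polar
theorem exists_good_step (hsq : (∀ z, P.β z z = 0) ∨ ∃ c, P.σ c ≠ c) {g : G} (hg : g ∈ P.bor) :
    ∀ i : ℕ, i ≤ m → ∃ u ∈ goodSub P.uni, ∀ a : Fin m × Bool, a.1.val < i → P.ρ (u * g) (P.vec a) ∈ P.ln a := by
  intro i
  induction i with
  | zero => exact fun _ => ⟨1, one_mem _, fun a ha => absurd ha (Nat.not_lt_zero _)⟩
  | succ i ih =>
    intro hi
    obtain ⟨u, hu, hu'⟩ := ih (by omega)
    set g' := u * g
    have hg'B : g' ∈ P.bor := mul_mem (P.uni_le_bor (goodSub_le _ hu)) hg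
    let li : Fin m := ⟨i, by omega⟩
    set v := P.ρ g' (P.f li) with hv
    have hvd : ∀ d : Fin m × Bool, d.1.val < i → P.β v (P.vec d) = 0 := by
      intro d hd
      obtain ⟨r, hr0, hr⟩ := P.exists_scalar (hu' d hd)
      have h := P.map g' (P.f li) (P.vec d)
      rw [hr, P.smul_right, show P.f li = P.vec (li, false) from rfl, P.beta_vec_ne (a := (li, false)) (b := d)
        (fun e => by rw [e] at hd; exact lt_irrefl _ hd)] at h
      refine (mul_eq_zero.1 h).resolve_left fun e => hr0 ?_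
      have := congrArg P.σ e
      rwa [P.σσ, map_zero] at this
    have hve : P.β v (P.e li) ≠ 0 := by
      intro h0
      have h1 := P.bor_perp (inv_mem hg'B) (k := i + 1) (x := v) (fun l hl => by
        rcases (Nat.lt_succ_iff.1 hl).lt_or_eq with hl | hl
        · exact hvd (l, true) hl
        · rw [show l = li from Fin.ext hl]; exact h0) li (Nat.lt_succ_self _)
      rw [hv, P.ρ_inv_self, P.fe, if_pos rfl] at h1
      exact P.ε_ne h1
    obtain ⟨x, z, a, dd, hdd, hxf, hx, -, hz⟩ := P.exists_move (P.e_sing li) (P.f_sing li)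
      (by rw [P.ef, if_pos rfl]) (P.sing_map _ _ (P.f_sing li)) hve
    have hzd : ∀ d : Fin m × Bool, d.1.val < i → P.β z (P.vec d) = 0 := by
      intro d hd
      clear hx hxf
      induction hz using Submodule.span_induction with
      | mem y hy =>
        simp only [Set.mem_insert_iff, Set.mem_singleton_iff] at hy
        rcases hy with e | e | e <;> subst e
        · exact P.beta_vec_ne (a := (li, true)) fun e => by rw [e] at hd; exact lt_irrefl _ hd
        · exact P.beta_vec_ne (a := (li, false)) fun e => by rw [e] at hd; exact lt_irrefl _ hd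
        · exact hvd d hd
      | zero => exact P.zero_left _
      | add p q _ _ hp hq => rw [P.add_left, hp, hq, add_zero]
      | smul r p _ hp => rw [P.smul_left, hp, mul_zero]
    have hxU : x ∈ P.uni := hx.mem_uni (P := P) fun j hj => hzd (j, true) hj
    have hfix : ∀ d : Fin m × Bool, d.1.val < i → P.ρ x⁻¹ (P.vec d) = P.vec d := by
      intro d hd
      have h : P.ρ x (P.vec d) = P.vec d := hx.apply_orth (P := P)
        (by rw [show P.e li = P.vec (li, true) from rfl, P.beta_vec_ne]; intro e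
            have := congrArg (fun p : Fin m × Bool => p.1.val) e
            simp only [opp, li] at this
            omega)
        (P.symm_zero (hzd d hd))
      conv_lhs => rw [← h]
      exact P.ρ_inv_self _ _
    have hxG : x ∈ goodSub P.uni := P.isS_good hsq hx fun j hj => hzd (j, true) hj
    refine ⟨x⁻¹ * u, mul_mem (inv_mem hxG) hu, ?_⟩
    set g'' := x⁻¹ * u * g with hg''
    have e'' : g'' = x⁻¹ * g' := mul_assoc _ _ _
    have hlow : ∀ d : Fin m × Bool, d.1.val < i → P.ρ g'' (P.vec d) ∈ P.ln d := fun d hd => by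
      obtain ⟨r, -, hr⟩ := P.exists_scalar (hu' d hd)
      rw [e'', P.ρ_mul, hr, map_smul, hfix d hd]
      exact Submodule.smul_mem _ _ (P.vec_mem_ln d)
    have hf : P.ρ g'' (P.vec (li, false)) ∈ P.ln (li, false) := by
      have h := congrArg (P.ρ x⁻¹) hxf
      rw [P.ρ_inv_self, map_smul] at h
      rw [e'', P.ρ_mul, P.vec_false, show P.ρ x⁻¹ (P.ρ g' (P.f li)) = dd⁻¹ • P.f li by
        rw [← hv, h, smul_smul, inv_mul_cancel₀ hdd, one_smul]]
      exact Submodule.smul_mem _ _ (P.vec_mem_ln (li, false))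
    have he : P.ρ g'' (P.vec (li, true)) ∈ P.ln (li, true) := by
      have hB : g'' ∈ P.bor := e'' ▸ mul_mem (inv_mem (P.uni_le_bor hxU)) hg'B
      obtain ⟨h1, h2, h3⟩ := P.mem_Fl.1 (hB li)
      refine P.mem_ln_iff.2 ⟨fun b hb => ?_, h3⟩
      obtain ⟨l, s⟩ := b
      cases s
      · have hne : l ≠ li := fun e => hb (by rw [e]; rfl)
        rcases Nat.lt_or_ge l.val i with hl | hl
        · obtain ⟨r, hr0, hr⟩ := P.exists_scalar (hlow (l, false) hl)
          have h := P.map g'' (P.vec (li, true)) (P.vec (l, false))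
          rw [hr, P.smul_right, P.beta_vec_ne (a := (li, true)) (b := (l, false))
            (fun e => hne (congrArg Prod.fst e))] at h
          refine (mul_eq_zero.1 h).resolve_left fun e => hr0 ?_
          have := congrArg P.σ e
          rwa [P.σσ, map_zero] at this
        · exact h2 l (by have := Fin.val_ne_of_ne hne; show i + 1 ≤ l.val; simp only [li] at this; omega)
      · exact h1 l
    intro d hd
    rcases (Nat.lt_succ_iff.1 hd).lt_or_eq with h | h
    · exact hlow d h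
    · obtain ⟨l, s⟩ := d
      obtain rfl : l = li := Fin.ext h
      cases s
      exacts [hf, he]

theorem sylSq (hsq : (∀ z, P.β z z = 0) ∨ ∃ c, P.σ c ≠ c)
    (hmid : ∀ g, (∀ a, P.ρ g (P.vec a) = P.vec a) → g ^ 2 = 1 → g = 1) :
    SylSq 2 (G ⧸ Subgroup.center G) := by
  have : Fact (Nat.Prime 2) := ⟨Nat.prime_two⟩
  refine SylSq.of_split (P.split 2 hmid) (Sq.of_le_good fun g hg => ?_) (QuotientGroup.mk' _)
    (QuotientGroup.mk'_surjective _)
  obtain ⟨u, hu, h⟩ := P.exists_good_step hsq (P.uni_le_bor hg) m le_rfl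
  have h1 := P.uni_inf_tor (mul_mem (goodSub_le _ hu) hg) (fun a => h a a.1.isLt)
  rw [mul_eq_one_iff_eq_inv'.1 h1]
  exact inv_mem hu

end Polar
end

theorem polar_self_two {F : Type u} [Field F] [CharP F 2] {ι : Type} (Q : QuadraticForm F (ι → F)) (z : ι → F) :
    QuadraticMap.polar (⇑Q) z z = 0 := by
  rw [QuadraticMap.polar_self, two_nsmul, CharTwo.add_self_eq_zero]

theorem sylSq_omega_plus {F : Type u} [Field F] [Fintype F] [CharP F 2]
    {m : ℕ} (hm : 3 ≤ m) : SylSq 2 (Cfsg.POmega F (Cfsg.quadFormPlus m F)) := by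
  rw [show Cfsg.quadFormPlus m F = ⇑(HypQuad.plusForm m F) from (funext (HypQuad.plusForm_apply m)).symm]
  set Q := HypQuad.plusForm m F with hQdef
  have hQ : (QuadraticMap.polarBilin Q).Nondegenerate := HypQuad.plusForm_nondegenerate m
  have he : ∀ i : Fin m, Q (Pi.single (Sum.inl i) 1) = 0 := fun i => by
    simp [hQdef, HypQuad.plusForm_apply, Cfsg.quadFormPlus, Pi.single_apply]
  have hee : ∀ i j : Fin m, QuadraticMap.polar (⇑Q) (Pi.single (Sum.inl i) 1) (Pi.single (Sum.inl j) 1) = 0 :=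
    fun i j => by rw [(plus_frame _ j).1]; simp
  have hef : ∀ i j : Fin m, QuadraticMap.polar (⇑Q) (Pi.single (Sum.inl i) 1) (Pi.single (Sum.inr j) 1) =
      if i = j then 1 else 0 := fun i j => by rw [(plus_frame _ j).2]; simp [Pi.single_apply, eq_comm]
  have hW : ∀ x, (∀ i, QuadraticMap.polar (⇑Q) x (Pi.single (Sum.inl i) 1) = 0 ∧
      QuadraticMap.polar (⇑Q) x (Pi.single (Sum.inr i) 1) = 0) → x = 0 := by
    intro x hx
    funext j
    rcases j with j | j
    · rw [← (plus_frame x j).2]; exact (hx j).2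
    · rw [← (plus_frame x j).1]; exact (hx j).1
  refine (orthPolar Q hQ (by simp; omega)
    (fun i => Pi.single (Sum.inl i) 1) (fun i => Pi.single (Sum.inr i) 1) he
    (fun i => by simp [hQdef, HypQuad.plusForm_apply, Cfsg.quadFormPlus, Pi.single_apply])
    hee (fun i j => by rw [(plus_frame _ j).2]; simp) hef
    (fun x hx _ => hW x hx) True (fun _ => by omega) (fun _ => hW) (fun h => absurd trivial h)
    (fun _ g hgΩ hg i _ => last_of_parity Q hQ (by simp; omega) _ (fun i => Pi.single (Sum.inr i) 1) he hee hef g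
      hgΩ hg i) (by omega)).sylSq (Or.inl fun z => polar_self_two Q z)
    (Polar.mid_of_line _ 2 (w₀ := 0) fun w hw => ⟨0, ?_⟩)
  rw [zero_smul]; exact (hW w hw).symm

theorem sylSq_omega_minus {F : Type u} [Field F] [Fintype F] [CharP F 2]
    {m : ℕ} (hm : 2 ≤ m) {a b : F}
    (hab : ∀ z₁ z₂ : F, z₁ ^ 2 + a * z₁ * z₂ + b * z₂ ^ 2 = 0 → z₁ = 0 ∧ z₂ = 0) :
    SylSq 2 (Cfsg.POmega F (Cfsg.quadFormMinus m F a b)) := by
  rw [← Refl.minusForm_coe]
  set Q := Refl.minusForm m F a b with hQdef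
  have hQ : (QuadraticMap.polarBilin Q).Nondegenerate := Refl.minusForm_nondegenerate' m hab
  have hW : ∀ x, (∀ i, QuadraticMap.polar (⇑Q) x (Pi.single (Sum.inl (Sum.inl i)) 1) = 0 ∧
      QuadraticMap.polar (⇑Q) x (Pi.single (Sum.inl (Sum.inr i)) 1) = 0) →
      ∀ j, x (Sum.inl j) = 0 := by
    intro x hx j
    rcases j with j | j
    · rw [← (minus_frame a b x j).2]; exact (hx j).2
    · rw [← (minus_frame a b x j).1]; exact (hx j).1
  have hani : ∀ x, (∀ i, QuadraticMap.polar (⇑Q) x (Pi.single (Sum.inl (Sum.inl i)) 1) = 0 ∧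
      QuadraticMap.polar (⇑Q) x (Pi.single (Sum.inl (Sum.inr i)) 1) = 0) → Q x = 0 → x = 0 := by
    intro x hx hxx
    have h := hab (x (Sum.inr 0)) (x (Sum.inr 1)) (by
      simpa [hQdef, Refl.minusForm_coe, Cfsg.quadFormMinus, hW x hx] using hxx)
    funext j
    rcases j with j | j
    · exact hW x hx j
    · fin_cases j
      exacts [h.1, h.2]
  set P := orthPolar Q hQ (by simp; omega)
    (fun i => Pi.single (Sum.inl (Sum.inl i)) 1) (fun i => Pi.single (Sum.inl (Sum.inr i)) 1)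
    (fun i => by simp [hQdef, Refl.minusForm_coe, Cfsg.quadFormMinus, Pi.single_apply])
    (fun i => by simp [hQdef, Refl.minusForm_coe, Cfsg.quadFormMinus, Pi.single_apply])
    (fun i j => by rw [(minus_frame a b _ j).1]; simp)
    (fun i j => by rw [(minus_frame a b _ j).2]; simp)
    (fun i j => by rw [(minus_frame a b _ j).2]; simp [Pi.single_apply, eq_comm])
    hani False (fun h => h.elim) (fun h => h.elim)
    (fun _ => ⟨Pi.single (Sum.inr 0) 1,
      fun i => ⟨by rw [(minus_frame a b _ i).1]; simp, by rw [(minus_frame a b _ i).2]; simp⟩,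
      by simp [hQdef, Refl.minusForm_coe, Cfsg.quadFormMinus]⟩) (fun h => h.elim) (by omega) with hP
  refine P.sylSq (Or.inl fun z => polar_self_two Q z) (mid_of_plane Q hQ P rfl (fun g y => Matrix.toLin'_apply _ y) 2 hani
    fun w u hw hu hw0 hne y hy => ?_)
  set d := w (Sum.inr 0) * u (Sum.inr 1) - w (Sum.inr 1) * u (Sum.inr 0) with hd
  have hext : ∀ s t : (Fin m ⊕ Fin m) ⊕ Fin 2 → F, (∀ j, s (Sum.inl j) = 0) → (∀ j, t (Sum.inl j) = 0) →
      s (Sum.inr 0) = t (Sum.inr 0) → s (Sum.inr 1) = t (Sum.inr 1) → s = t := by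
    intro s t hs ht h0 h1
    funext j
    rcases j with j | j
    · rw [hs, ht]
    · fin_cases j
      exacts [h0, h1]
  have hw' := hW w hw
  have hu' := hW u hu
  have hd0 : d ≠ 0 := by
    intro h
    by_cases h0 : w (Sum.inr 0) = 0
    · have h1 : w (Sum.inr 1) ≠ 0 := fun e => hw0 (hext w 0 hw' (fun j => rfl) h0 e)
      refine hne (u (Sum.inr 1) / w (Sum.inr 1)) (hext _ _ (fun j => by simp [hw' j]) hu' ?_ ?_)
      · rw [hd, h0, zero_mul, zero_sub, neg_eq_zero, mul_eq_zero] at h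
        simp [h0, h.resolve_left h1]
      · simp [h1]
    · refine hne (u (Sum.inr 0) / w (Sum.inr 0)) (hext _ _ (fun j => by simp [hw' j]) hu' (by simp [h0]) ?_)
      show u (Sum.inr 0) / w (Sum.inr 0) * w (Sum.inr 1) = u (Sum.inr 1)
      field_simp
      linear_combination -h
  refine ⟨(y (Sum.inr 0) * u (Sum.inr 1) - y (Sum.inr 1) * u (Sum.inr 0)) / d,
    (w (Sum.inr 0) * y (Sum.inr 1) - w (Sum.inr 1) * y (Sum.inr 0)) / d,
    hext _ _ (fun j => by simp [hw' j, hu' j]) (hW y hy) ?_ ?_⟩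
  · simp only [Pi.add_apply, Pi.smul_apply, smul_eq_mul]
    field_simp
    rw [hd]; ring
  · simp only [Pi.add_apply, Pi.smul_apply, smul_eq_mul]
    field_simp
    rw [hd]; ring

/-- `PSp`. -/
theorem sylSq_psp {F : Type u} [Field F] [Fintype F] [CharP F 2] (m : ℕ) (hm : 1 ≤ m) :
    SylSq 2 (Cfsg.PSp m F) := by
  have : Fact (Nat.Prime 2) := ⟨Nat.prime_two⟩
  refine (spPolar m F hm).sylSq (Or.inl fun z => sympBilin_isAlt m F z)
    ((spPolar m F hm).mid_of_line 2 (w₀ := 0) fun w hw => ⟨0, ?_⟩)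
  rw [zero_smul]
  exact ((spPolar m F hm).aniso w hw trivial).symm

/-- `PSU`. -/
theorem sylSq_psu {F : Type u} [Field F] [Fintype F] [CharP F 2] {n q : ℕ} (hn : 2 ≤ n)
    (hF : Fintype.card F = q ^ 2) : SylSq 2 (Cfsg.PSU n F q) := by
  haveI : Fact (Nat.Prime 2) := ⟨Nat.prime_two⟩
  haveI : Finite ((Fin n → F) ≃ₗ[F] (Fin n → F)) :=
    Finite.of_injective (fun e => (e : (Fin n → F) → (Fin n → F))) DFunLike.coe_injective
  obtain ⟨θ, z, hθ, hz, hz1⟩ := exists_frame_data hF n
  set P := suPolar hF hn θ z hθ hz hz1 with hP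
  have hsq : (∀ y, P.β y y = 0) ∨ ∃ c, P.σ c ≠ c := by
    obtain ⟨c, hc⟩ := (stdHerm n hF).conj.ne_id
    exact Or.inr ⟨c, hc⟩
  have h : SylSq 2 _ := P.sylSq hsq (P.mid_of_line 2
    (w₀ := Pi.single ⟨n - 1, by omega⟩ 1) fun w hw => ⟨w ⟨n - 1, by omega⟩, ?_⟩)
  · refine SylSq.of_equiv ?_ h
    set e := suEquiv n hF
    exact (QuotientGroup.congr _ _ e (by
      ext x
      rw [Subgroup.map_equiv_eq_comap_symm]
      simp only [Subgroup.mem_comap, MonoidHom.coe_coe, Subgroup.mem_center_iff]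
      exact ⟨fun h y => e.symm.injective (by rw [map_mul, map_mul]; exact h (e.symm y)),
        fun h y => by simpa using congrArg e.symm (h (e y))⟩)).symm
  have hz' := pair_zero hF hθ hz1 w hw
  funext l
  by_cases hl : l.val < 2 * (n / 2)
  · rw [hz' l hl]
    by_cases hl' : l = ⟨n - 1, by omega⟩
    · have := hz' l hl; rw [hl'] at this ⊢; simp [this]
    · simp [hl']
  · have hl' : l = ⟨n - 1, by omega⟩ := Fin.ext (by show l.val = n - 1; omega)
    rw [hl']; simp

end Cfsg.Lib.PolarBN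

namespace Cfsg.Lib.SLBN

open Cfsg.Lib.Known.SylSquare

theorem sylSq {n : ℕ} {F : Type*} [Field F] [Fintype F] [CharP F 2] :
    SylSq 2 (Matrix.ProjectiveSpecialLinearGroup (Fin n) F) := by
  classical
  have : Fact (Nat.Prime 2) := ⟨Nat.prime_two⟩
  refine SylSq.of_split (split (n := n) (F := F) 2) (Sq.of_le_good ?_) (QuotientGroup.mk' _)
    (QuotientGroup.mk'_surjective _)
  suffices key : ∀ (k : ℕ) (g : Matrix.SpecialLinearGroup (Fin n) F), g ∈ U n F →
      (Finset.univ.filter fun p : Fin n × Fin n => p.1 ≠ p.2 ∧ (g : Matrix (Fin n) (Fin n) F) p.1 p.2 ≠ 0).card = k →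
      g ∈ goodSub (U n F) from fun g hg => key _ g hg rfl
  intro k
  induction k using Nat.strong_induction_on with
  | _ k ih =>
    intro g hg hk
    set S := Finset.univ.filter fun p : Fin n × Fin n => p.1 ≠ p.2 ∧ (g : Matrix (Fin n) (Fin n) F) p.1 p.2 ≠ 0
    by_cases hS : S = ∅
    · have : g = 1 := by
        refine Subtype.ext (Matrix.ext fun i j => ?_)
        by_cases hij : i = j
        · subst hij; simp [(mem_U.1 hg).2 i]
        · by_contra hne
          exact (Finset.eq_empty_iff_forall_notMem.1 hS) (i, j) (by simp [S, hij]; simpa [hij] using hne)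
      rw [this]; exact one_mem _
    obtain ⟨⟨i, j⟩, hp, hmax⟩ := S.exists_max_image (fun p => p.1) (Finset.nonempty_iff_ne_empty.2 hS)
    simp only [S, Finset.mem_filter, Finset.mem_univ, true_and] at hp
    have hlt : i < j := lt_of_le_of_ne (not_lt.1 fun h => hp.2 (mem_B.1 hg.1 i j h)) hp.1
    set c := (g : Matrix (Fin n) (Fin n) F) i j
    have htv : (tv hlt.ne c : Matrix.SpecialLinearGroup (Fin n) F) ∈ goodSub (U n F) := by
      refine mem_goodSub_of_sq (mem_U.2 ⟨tv_mem_B hlt c, fun l => ?_⟩) ?_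
      · rw [coe_tv, Matrix.transvection]
        simp [Matrix.single_apply]
        intro h1 h2
        exact absurd (h1.trans h2.symm) hlt.ne
      · refine Subtype.ext ?_
        rw [Matrix.SpecialLinearGroup.coe_mul, coe_tv, Matrix.transvection_mul_transvection_same (h := hlt.ne),
          CharTwo.add_self_eq_zero, Matrix.transvection_zero]
        rfl
    set g' := tv hlt.ne (-c) * g with hg'
    have hrow : ∀ l, (g : Matrix (Fin n) (Fin n) F) j l = (1 : Matrix (Fin n) (Fin n) F) j l := fun l => by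
      by_cases hjl : j = l
      · subst hjl; simp [(mem_U.1 hg).2 j]
      · rw [Matrix.one_apply_ne hjl]
        by_contra hne
        have := hmax (j, l) (by simp [S, hjl, hne])
        exact absurd this (not_le.2 hlt)
    have hval : ∀ a b, (g' : Matrix (Fin n) (Fin n) F) a b =
        if a = i ∧ b = j then 0 else (g : Matrix (Fin n) (Fin n) F) a b := fun a b => by
      rw [hg', Matrix.SpecialLinearGroup.coe_mul, coe_tv]
      by_cases ha : a = i
      · subst ha
        rw [Matrix.transvection_mul_apply_same, hrow]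
        by_cases hb : b = j
        · subst hb; simp [c]
        · simp [hb, Ne.symm hb]
      · rw [Matrix.transvection_mul_apply_of_ne (ha := ha)]; simp [ha]
    have hinv : tv hlt.ne (-c) = (tv hlt.ne c : Matrix.SpecialLinearGroup (Fin n) F)⁻¹ := (tv_inv hlt.ne c).symm
    have hg'U : g' ∈ U n F := mul_mem (hinv ▸ inv_mem (goodSub_le _ htv)) hg
    have hcard : (Finset.univ.filter fun p : Fin n × Fin n =>
        p.1 ≠ p.2 ∧ (g' : Matrix (Fin n) (Fin n) F) p.1 p.2 ≠ 0).card < k := by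
      rw [← hk]
      refine Finset.card_lt_card (Finset.ssubset_iff_of_subset (fun p hp => ?_) |>.2 ⟨(i, j), ?_, ?_⟩)
      · simp only [S, Finset.mem_filter, Finset.mem_univ, true_and, hval] at hp ⊢
        refine ⟨hp.1, ?_⟩
        have := hp.2
        split_ifs at this with h
        · exact absurd rfl this
        · exact this
      · simp only [S, Finset.mem_filter, Finset.mem_univ, true_and]; exact hp
      · simp [hval]
    have := mul_mem htv (ih _ hcard g' hg'U rfl)
    rwa [hg', hinv, mul_inv_cancel_left] at this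

end Cfsg.Lib.SLBN

namespace Cfsg.Lib.Suz

open Cfsg.Lib.Known.SylSquare

theorem pow_succ_bij {F : Type*} [Field F] [Finite F] {e N : ℕ} (h : ∀ x : Fˣ, x ^ (e + 1) = 1 → x = 1) {v : F}
    (hv : v ≠ 0) (hN : N = e + 1) : ∃ k : F, k ^ N = v := by
  subst hN
  have hinj : Function.Injective fun x : Fˣ => x ^ (e + 1) := fun a b hab => by
    have : (a * b⁻¹) ^ (e + 1) = 1 := by
      rw [mul_pow, inv_pow]; simp only at hab; rw [hab, mul_inv_cancel]
    exact mul_inv_eq_one.1 (h _ this)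
  obtain ⟨k, hk⟩ := Finite.injective_iff_surjective.1 hinj (Units.mk0 v hv)
  exact ⟨k, by simpa using congrArg Units.val hk⟩

theorem sylSq {F : Type*} [Field F] [Fintype F] {m : ℕ} (Q : Par F m) :
    SylSq 2 ↥(Cfsg.Lie.Sz F (2 ^ (m + 1))) := by
  have : Fact (Nat.Prime 2) := ⟨Nat.prime_two⟩
  refine SylSq.of_surj (U := uSub Q) (IsPGroup.of_card (n := (2 * m + 1) * 2) (by rw [card_uSub, ← pow_mul])) ?_
    (Sq.of_le_good fun g hg => ?_) (lieEquiv Q).toMonoidHom (lieEquiv Q).surjective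
  · rw [card_uSub, card_Sz Q]
    have hm := Q.hm
    set q := 2 ^ (2 * m + 1) with hq
    have hd : 2 ∣ q := dvd_pow_self 2 (by omega)
    have hq2 : 2 ≤ q := Nat.le_self_pow (by omega) 2
    have h1 : ¬ 2 ∣ q ^ 2 + 1 := fun h => by
      have := (Nat.dvd_add_right (dvd_pow hd two_ne_zero)).1 h; omega
    have h3 : ¬ 2 ∣ q - 1 := by omega
    rw [Nat.factorization_mul (by positivity) (by omega), Nat.factorization_mul (by positivity) (by omega),
      Finsupp.add_apply, Finsupp.add_apply, Nat.factorization_eq_zero_of_not_dvd h1,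
      Nat.factorization_eq_zero_of_not_dvd h3, add_zero, add_zero, hq, ← pow_mul,
      Nat.prime_two.factorization_pow, Finsupp.single_eq_same]
  obtain ⟨a, b, rfl⟩ := exists_uu Q hg
  set s := 2 ^ (m + 1) with hs
  have hq : ∀ x : F, x ^ (2 ^ (2 * m + 1)) = x := fun x => by rw [← Q.hF]; exact FiniteField.pow_card x
  have hss : ∀ x : F, (x ^ s) ^ s = x ^ 2 := fun x => by
    rw [← pow_mul, hs, show 2 ^ (m + 1) * 2 ^ (m + 1) = 2 ^ (2 * m + 1) * 2 by ring, pow_mul, hq]
  have hinj : ∀ x : Fˣ, x ^ (s + 1) = 1 → x = 1 := fun x hx => by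
    have h1 : (x : F) ^ s = (x : F)⁻¹ := eq_inv_of_mul_eq_one_left (by
      rw [← pow_succ, ← Units.val_pow_eq_pow_val, hx, Units.val_one])
    have h2 := hss x
    rw [h1, inv_pow, h1, inv_inv] at h2
    exact Units.ext ((mul_eq_left₀ x.ne_zero).1 (by rw [← pow_two, ← h2]))
  obtain ⟨t, ht⟩ : ∃ t : F, t ^ s ≠ t := by
    by_contra hc
    push Not at hc
    classical
    have hle : (Finset.univ : Finset F) ⊆ {0, 1} := fun x _ => by
      have := hss x
      rw [hc, hc] at this
      rcases eq_or_ne x 0 with h | h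
      · simp [h]
      · simp [(mul_eq_left₀ h).1 (by rw [← pow_two, ← this])]
    have h4 := (Finset.card_le_card hle).trans Finset.card_le_two
    rw [Finset.card_univ, Q.hF] at h4
    have : 2 ^ 2 ≤ 2 ^ (2 * m + 1) := Nat.pow_le_pow_right (by omega) (by have := Q.hm; omega)
    omega
  rcases eq_or_ne a 0 with rfl | ha
  · refine mem_goodSub_of_sq (uu_mem Q _ _) (Subtype.ext ?_)
    show T m 0 b * T m 0 b = 1
    rw [T_mul Q, add_zero, mul_zero, add_zero, add_self Q]
    exact T_zero Q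
  obtain ⟨k, hk⟩ := pow_succ_bij (e := s) hinj
    (v := a ^ (s + 1) / (t ^ s + t)) (div_ne_zero (pow_ne_zero _ ha) fun e => ht (by
      have := add_self Q t
      linear_combination e - this)) rfl
  refine mem_goodSub_of_comm (uu_mem Q _ _) (uu_mem Q (k * t) 0) (uu_mem Q k 0) (Subtype.ext ?_)
  show T m a b * T m a b = T m (k * t) 0 * T m k 0 * (T m (k * t) 0)⁻¹ * (T m k 0)⁻¹
  have hne : t ^ s + t ≠ 0 := fun e => ht (by
      have := add_self Q t
      linear_combination e - this)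
  rw [eq_mul_inv_iff_mul_eq, eq_mul_inv_iff_mul_eq]
  simp only [T_mul Q, add_zero, zero_add, add_self Q]
  congr 1
  · ring
  · have h2 : (2 : F) = 0 := by rw [← add_self Q (1 : F)]; norm_num
    rw [← hs, show a ^ s * a = a ^ (s + 1) from (pow_succ a s).symm, show a ^ (s + 1) = k ^ (s + 1) * (t ^ s + t) by
      rw [hk, div_mul_cancel₀ _ hne], zero_pow (by positivity), zero_mul, add_zero]
    rw [mul_pow, pow_succ]
    linear_combination (k ^ s * k * t) * h2

end Cfsg.Lib.Suz

namespace Cfsg.Lib.Known.SylSquare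

open Cfsg.Lib.Steinberg Cfsg.Lie Cfsg.Lib.Chev Cfsg.Lib.Known.SylFix

universe u

variable {F : Type u} [Field F] [Fintype F] [CharP F 2]

theorem two_fact : Fact (Nat.Prime 2) := ⟨Nat.prime_two⟩

theorem sq_sub {D : ChevalleyDatum} {G1 : Subgroup (GL D.Idx F)}
    (h : D.posUnipotent F ⊓ G1 ≤ goodSub (D.posUnipotent F ⊓ G1)) : Sq ((D.posUnipotent F).subgroupOf G1) := by
  refine Sq.of_map (f := G1.subtype) Subtype.val_injective ?_
  rw [Subgroup.subgroupOf_map_subtype]
  exact Sq.of_le_good h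

theorem sylSq_chev {D : ChevalleyDatum} (hD : D ∈ [chevG2, chevB2, chevD4, chevF4, chevE6, chevE7, chevE8]) :
    SylSq 2 ↥(D.group F) := by
  have := two_fact
  obtain ⟨C, T, S, hN, -, -, -⟩ := lin_of_mem hD
  obtain ⟨P, hB, hPN, -⟩ := S.exists_bnPair (F := F) (fun i j h => S.simple_ne hN i j h)
  have hs : Split P ((D.posUnipotent F).subgroupOf (D.group F)) 2 := by
    refine split_sub 2 S P ?_ ?_ fun b hb => ?_
    · rw [hB, Subgroup.inf_subgroupOf_right]
    · rw [hPN, Subgroup.inf_subgroupOf_right]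
    · obtain ⟨u, hu, d, hd, e⟩ := S.borel_decomp (Subgroup.mem_inf.1 hb).1
      exact ⟨u, Subgroup.mem_inf.2 ⟨hu, S.borel_le_group (S.B_le_of hu)⟩, d, hd, e⟩
  refine SylSq.of_split hs (sq_sub ?_) (MonoidHom.id _) Function.surjective_id
  have hle : D.posUnipotent F ≤ goodSub (D.posUnipotent F ⊓ D.group F) := by
    refine (Subgroup.closure_le _).2 ?_
    rintro x ⟨r, t, hr, hx⟩
    rw [S.ok.eq_xG hx]
    refine mem_goodSub_of_sq ⟨Subgroup.subset_closure ⟨r, t, hr, S.ok.val_xG _ _⟩, S.ok.xG_mem_group _ _⟩ ?_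
    rw [S.ok.xG_mul, CharTwo.add_self_eq_zero, S.xG_zero]
  exact inf_le_left.trans hle

theorem wG_sq {D : ChevalleyDatum} {C : Cert} (S : Struct D C) : ∀ w : List (ℕ × F),
    (∀ p ∈ w, p.1 < D.nroots) → (∀ p ∈ w, ∀ p' ∈ w, ∀ t u : F, Commute (S.ok.xG p.1 t) (S.ok.xG p'.1 u)) →
    S.ok.wG w * S.ok.wG w = 1
  | [], _, _ => by simp [Ok.wG]
  | p :: w, hlt, hc => by
    have ih := wG_sq S w (fun x hx => hlt x (List.mem_cons_of_mem _ hx))
      fun x hx y hy => hc x (List.mem_cons_of_mem _ hx) y (List.mem_cons_of_mem _ hy)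
    have hcons : S.ok.wG (p :: w) = S.ok.xG p.1 p.2 * S.ok.wG w := by simp [Ok.wG]
    have hcomm : Commute (S.ok.xG p.1 p.2) (S.ok.wG w) := by
      unfold Ok.wG
      refine Commute.list_prod_right _ _ fun x hx => ?_
      obtain ⟨q, hq, rfl⟩ := List.mem_map.1 hx
      exact hc p List.mem_cons_self q (List.mem_cons_of_mem _ hq) _ _
    rw [hcons, hcomm.symm.mul_mul_mul_comm, ih, mul_one, S.ok.xG_mul, CharTwo.add_self_eq_zero, S.xG_zero]

theorem sq_tw {D D' : ChevalleyDatum} {C C' : Cert} {W : TwDat} {T : List (List ℤ)} (X : Tw D D' C C' W T F) :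
    D.posUnipotent F ⊓ X.G1 ≤ goodSub (D.posUnipotent F ⊓ X.G1) := by
  conv_lhs => rw [X.U_inf_G1]
  refine X.U_fix_le fun k c hc t ht => ?_
  refine mem_goodSub_of_sq ?_ ?_
  · rw [X.U_inf_G1, X.U_eq]
    obtain ⟨h1, h2⟩ := Subgroup.mem_inf.1 (X.y_mem_lev hc ht)
    exact Subgroup.mem_inf.2 ⟨X.S.Uh_mono (by omega) h1, h2⟩
  · obtain ⟨h1, -, -, -, h5⟩ := X.lev_spec hc
    exact wG_sq X.S _ (fun p hp => (h1 _ (X.mem_orbW hp)).1) fun p hp p' hp' t u =>
      X.S.commute_of_commOK (h1 _ (X.mem_orbW hp)).1 (h1 _ (X.mem_orbW hp')).1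
        (h5 _ (X.mem_orbW hp) _ (X.mem_orbW hp')) t u

theorem sylSq_twE6 {q : ℕ} (hq : IsPrimePow q) (hK : Fintype.card F = q ^ 2) : SylSq 2 ↥(twistedE6 F q) := by
  have := two_fact
  obtain ⟨X, rfl⟩ := Cfsg.Lib.Chev.E6.exists_tw hq hK
  obtain ⟨P, h1, h2, -⟩ := X.exists_bnPair (Cfsg.Lib.Chev.E6.relOK X)
  rw [← Cfsg.Lib.Chev.E6.G1_eq X]
  rw [← X.borel_inf_G1 (Cfsg.Lib.Chev.E6.relOK X)] at h1
  rw [← X.mono_inf_G1 (Cfsg.Lib.Chev.E6.relOK X)] at h2
  refine SylSq.of_split (split_sub 2 X.S P h1 h2 fun b hb => ?_) (sq_sub (sq_tw X)) (MonoidHom.id _)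
    Function.surjective_id
  rw [X.borel_inf_G1 (Cfsg.Lib.Chev.E6.relOK X)] at hb
  obtain ⟨u, hu, t, ht, e⟩ := X.B1_decomp hb
  exact ⟨u, hu, t, X.T1_le_diag ht, e⟩

theorem sylSq_twD4 {q : ℕ} (hq : IsPrimePow q) (hK : Fintype.card F = q ^ 3) : SylSq 2 ↥(twistedD4 F q) := by
  have := two_fact
  obtain ⟨X, rfl⟩ := Cfsg.Lib.Chev.D4.exists_tw hq hK
  obtain ⟨P, h1, h2, -⟩ := X.exists_bnPair (Cfsg.Lib.Chev.D4.relOK X)
  rw [← Cfsg.Lib.Chev.D4.G1_eq X]
  rw [← X.borel_inf_G1 (Cfsg.Lib.Chev.D4.relOK X)] at h1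
  rw [← X.mono_inf_G1 (Cfsg.Lib.Chev.D4.relOK X)] at h2
  refine SylSq.of_split (split_sub 2 X.S P h1 h2 fun b hb => ?_) (sq_sub (sq_tw X)) (MonoidHom.id _)
    Function.surjective_id
  rw [X.borel_inf_G1 (Cfsg.Lib.Chev.D4.relOK X)] at hb
  obtain ⟨u, hu, t, ht, e⟩ := X.B1_decomp hb
  exact ⟨u, hu, t, X.T1_le_diag ht, e⟩

end Cfsg.Lib.Known.SylSquare
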