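import Cfsg.Agent.Known.SylSquare.Families
import Cfsg.Agent.Known.SylSquare.ReeF

/-! Squares in a Sylow 2-subgroup: all families. -/

set_option autoImplicit false

namespace Cfsg.Lib.Known.SylSquare

open Cfsg.Lib.Steinberg Cfsg.Lie Cfsg.Lib.Chev Cfsg.Lib.Known.SylFix

universe u

variable {F : Type u} [Field F] [Fintype F]

theorem sylSq_2F4 [CharP F 2] {m : ℕ} (hm : 1 ≤ m) (hK : Fintype.card F = 2 ^ (2 * m + 1)) :
    SylSq 2 ↥(twistedF4 F (2 ^ m)) := by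
  have := two_fact
  obtain ⟨X, rfl⟩ := Cfsg.Lib.Chev.ReeF.exists_rf hK
  show SylSq 2 ↥X.G1
  obtain ⟨P, h1, h2, -⟩ := X.exists_BN
  refine SylSq.of_split (split_sub 2 Cfsg.Lib.Chev.ReeF.SF P h1 h2 fun b hb => ?_) (sq_sub (X.U1_good hm))
    (MonoidHom.id _) Function.surjective_id
  obtain ⟨hbB, hbG⟩ := Subgroup.mem_inf.1 hb
  obtain ⟨u, hu, d, hd, e⟩ := X.borel_fixed hbB (by
    have := X.G1_le hbG
    exact this.2)
  exact ⟨u, hu, d, hd.1, e⟩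

theorem main {G : Type*} [Group G] [Finite G] (hG : Cfsg.IsLieTypeChar 2 G) : SylSq 2 G := by
  have := two_fact
  rcases hG with h | h | h | h | h | h | h | h | ⟨-, h⟩ | ⟨-, h⟩ | ⟨hp, -⟩
  · obtain ⟨F, _, _, _, n, hn, -, ⟨e⟩⟩ := h
    exact SylSq.of_equiv e Cfsg.Lib.SLBN.sylSq
  · obtain ⟨F, _, _, _, m, hm, -, ⟨e⟩⟩ := h
    exact SylSq.of_equiv e (Cfsg.Lib.PolarBN.sylSq_psp m (by omega))
  · obtain ⟨F, _, _, _, n, q, hF, hn, -, ⟨e⟩⟩ := h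
    exact SylSq.of_equiv e (Cfsg.Lib.PolarBN.sylSq_psu (by omega) hF)
  · obtain ⟨F, _, _, _, m, hm, hodd, ⟨e⟩⟩ := h
    obtain ⟨n, -, hn⟩ := FiniteField.card F 2
    have h2 : 2 ∣ Fintype.card F := by rw [hn]; exact dvd_pow_self 2 n.ne_zero
    exact absurd h2 (by intro h2; obtain ⟨k, hk⟩ := hodd; omega)
  · obtain ⟨F, _, _, _, m, hm, ⟨e⟩⟩ := h
    exact SylSq.of_equiv e (Cfsg.Lib.PolarBN.sylSq_omega_plus (by omega))
  · obtain ⟨F, _, _, _, m, a, b, hm, hab, ⟨e⟩⟩ := h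
    exact SylSq.of_equiv e (Cfsg.Lib.PolarBN.sylSq_omega_minus (by omega) hab)
  · obtain ⟨F, _, _, _, h⟩ := h
    have hc : ∀ D ∈ [chevG2, chevB2, chevD4, chevF4, chevE6, chevE7, chevE8],
        Nonempty (G ≃* ↥(D.group F)) → SylSq 2 G := fun D hD ⟨e⟩ => SylSq.of_equiv e (sylSq_chev hD)
    rcases h with ⟨-, e⟩ | e | e | e | e <;> exact hc _ (by simp) e
  · obtain ⟨K, _, _, _, q, hq, h⟩ := h
    rcases h with ⟨hK, ⟨e⟩⟩ | ⟨hK, ⟨e⟩⟩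
    exacts [SylSq.of_equiv e (sylSq_twE6 hq hK), SylSq.of_equiv e (sylSq_twD4 hq hK)]
  · obtain ⟨K, _, _, m, hm, hK, ⟨e⟩⟩ := h
    exact SylSq.of_equiv e (Cfsg.Lib.Suz.sylSq (⟨hm, hK⟩ : Cfsg.Lib.Suz.Par K m))
  · obtain ⟨K, _, _, m, hm, hK, ⟨e⟩⟩ := h
    have : CharP K 2 := charP_of_card_eq_prime_pow (f := 2 * m + 1) hK
    exact SylSq.of_equiv e (sylSq_2F4 hm hK)
  · norm_num at hp

end Cfsg.Lib.Known.SylSquare
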